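import Cfsg.Agent.Helper17.J1Q1TC.Lemmas

set_option autoImplicit false
set_option linter.all false

noncomputable section

namespace Cfsg.Agent.Helper17.J1Q1TC

theorem F1 : act 0 n0 = n0 := d8_0 B0 
theorem F2 : act 1 n0 = n0 := d9_0 B1 
theorem F3 : act 2 n0 = n0 := d10_0 B2 
def n1 : Q := act 3 n0
theorem D1 : act 3 n0 = n1 := rfl
theorem F4 : act 0 n1 = n1 := d2_1 D1 (iv D1) F1
theorem F5 : act 1 n1 = n1 := d4_1 D1 (iv D1) F2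
def n2 : Q := act 2 n1
theorem D2 : act 2 n1 = n2 := rfl
theorem F6 : act 0 n2 = n2 := d1_1 D2 (iv D2) F4
theorem F7 : act 3 n2 = n2 := d5_2 D1 D2 (iv D2) (iv D1) F3
def n3 : Q := act 1 n2
theorem D3 : act 1 n2 = n3 := rfl
theorem F8 : act 3 n3 = n3 := d4_2 F7 D3 (iv D3)
def n4 : Q := act 0 n3
theorem D4 : act 0 n3 = n4 := rfl
theorem F9 : act 1 n4 = n4 := d0_2 D3 D4 (iv D4) (iv D3) F6
theorem F10 : act 3 n4 = n4 := d2_2 F8 D4 (iv D4)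
def n5 : Q := act 2 n3
theorem D5 : act 2 n3 = n5 := rfl
def n6 : Q := act 2 n4
theorem D6 : act 2 n4 = n6 := rfl
theorem F11 : act 0 n6 = n5 := d1_1 D6 (iv D5) D4
def n7 : Q := act 1 n5
theorem D7 : act 1 n5 = n7 := rfl
theorem F12 : act 2 n7 = n7 := d3_2 D5 D7 (iv D7) (iv D5) (iv D3) (iv D2) F5 D2 D3
theorem F13 : act 3 n7 = n5 := d7_3 F8 D5 D7 (iv D5) (iv D3) F7 (iv D2) F5 (iv D1) F3 F2 D1 D2 D3
def n8 : Q := act 1 n6
theorem D8 : act 1 n6 = n8 := rfl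
def n9 : Q := act 3 n6
theorem D9 : act 3 n6 = n9 := rfl
theorem F14 : act 0 n9 = n7 := d2_1 D9 F13 (iv F11)
theorem F15 : act 2 n9 = n9 := d5_1 D9 (iv D9) (iv D6) F10 D6
def n10 : Q := act 0 n8
theorem D10 : act 0 n8 = n10 := rfl
theorem F16 : act 1 n10 = n9 := d0_2 D8 D10 F14 (iv D7) (iv F11)
theorem F17 : act 2 n10 = n8 := d6_3 D6 D8 D10 (iv D8) F11 (iv D5) (iv D3) F6 (iv D2) F5 F4 D2 D3 D4
theorem F18 : act 3 n8 = n10 := d4_0 F16 (iv D9) D8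

end Cfsg.Agent.Helper17.J1Q1TC
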